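import Mathlib
import Groth.Agent.Lib.Helper9.Misc.StdExt

/-!
# A proper morphism with a local section which is generically an isomorphism (helper5, S19198)
-/

set_option autoImplicit false
universe u
open CategoryTheory CategoryTheory.Limits AlgebraicGeometry

namespace Groth.Agent.H5.NbhdIso

/-- the inclusion of a nonempty basic open of the spectrum of a domain is scheme-theoretically
dominant. -/
theorem std_basicOpen_ι {R : Type u} [CommRing R] [IsDomain R] (ϖ : R) (hϖ : ϖ ≠ 0)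
    (D : (Spec (CommRingCat.of R)).Opens) (hD : D = PrimeSpectrum.basicOpen ϖ) :
    IsSchemeTheoreticallyDominant D.ι := by
  haveI : IsDominant D.ι := by
    rw [isDominant_iff, DenseRange, Scheme.Opens.range_ι]
    refine IsOpen.dense D.isOpen ⟨(⟨⊥, Ideal.isPrime_bot⟩ : PrimeSpectrum R), ?_⟩
    rw [hD]
    change (⟨⊥, Ideal.isPrime_bot⟩ : PrimeSpectrum R) ∈ PrimeSpectrum.basicOpen ϖ
    rw [PrimeSpectrum.mem_basicOpen]
    simpa using hϖ
  exact IsSchemeTheoreticallyDominant.of_isDominant _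

/-- the preimage of a nonempty basic open of the spectrum of a domain under a flat morphism is
scheme-theoretically dense. -/
theorem std_preimage_ι {R : Type u} [CommRing R] [IsDomain R] (ϖ : R) (hϖ : ϖ ≠ 0)
    {Y : Scheme.{u}} (g : Y ⟶ Spec (CommRingCat.of R)) [Flat g]
    (D : (Spec (CommRingCat.of R)).Opens) (hD : D = PrimeSpectrum.basicOpen ϖ) :
    IsSchemeTheoreticallyDominant (g ⁻¹ᵁ D).ι := by
  haveI := std_basicOpen_ι ϖ hϖ D hD
  haveI : IsAffine D.toScheme := by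
    have : IsAffineOpen D := by
      rw [hD]
      exact IsAffineOpen.Spec_basicOpen (R := CommRingCat.of R) ϖ
    exact this
  haveI : QuasiCompact D.ι := inferInstance
  exact IsSchemeTheoreticallyDominant.of_isPullback (isPullback_morphismRestrict g D)

/-- two morphisms into the preimage of an open over which `h` is an isomorphism agree as soon as
they agree after composing with `h`. -/
theorem eq_of_comp_eq_of_range_subset {Z C T : Scheme.{u}} (h : Z ⟶ C) (W : C.Opens)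
    [IsIso (h ∣_ W)] (a b : T ⟶ Z) (ha : Set.range a ⊆ (h ⁻¹ᵁ W : Set Z))
    (hb : Set.range b ⊆ (h ⁻¹ᵁ W : Set Z)) (hab : a ≫ h = b ≫ h) : a = b := by
  have ha' : Set.range a ⊆ Set.range (h ⁻¹ᵁ W).ι := by rwa [Scheme.Opens.range_ι]
  have hb' : Set.range b ⊆ Set.range (h ⁻¹ᵁ W).ι := by rwa [Scheme.Opens.range_ι]
  have h1 : IsOpenImmersion.lift (h ⁻¹ᵁ W).ι a ha' = IsOpenImmersion.lift (h ⁻¹ᵁ W).ι b hb' := by
    rw [← cancel_mono ((h ∣_ W) ≫ W.ι), morphismRestrict_ι, IsOpenImmersion.lift_fac_assoc,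
      IsOpenImmersion.lift_fac_assoc, hab]
  rw [← IsOpenImmersion.lift_fac (h ⁻¹ᵁ W).ι a ha', h1, IsOpenImmersion.lift_fac]

/-- **section ⇒ isomorphism**: a separated morphism `h : Z ⟶ C` with `Z` flat over a domain `R`,
which is an isomorphism over the locus where `ϖ ≠ 0` is invertible and admits a section over an
open `U`, is an isomorphism over `U`. -/
theorem isIso_morphismRestrict_of_section {R : Type u} [CommRing R] [IsDomain R]
    {C Z : Scheme.{u}} (πC : C ⟶ Spec (CommRingCat.of R)) (h : Z ⟶ C) [IsSeparated h]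
    [Flat (h ≫ πC)] (ϖ : R) (hϖ : ϖ ≠ 0)
    (hgen : IsIso (h ∣_ (πC ⁻¹ᵁ (PrimeSpectrum.basicOpen ϖ))))
    (U : C.Opens) (s : U.toScheme ⟶ Z) (hs : s ≫ h = U.ι) : IsIso (h ∣_ U) := by
  set D : (Spec (CommRingCat.of R)).Opens := PrimeSpectrum.basicOpen ϖ with hD
  have hrange : Set.range s ⊆ Set.range (h ⁻¹ᵁ U).ι := by
    rw [Scheme.Opens.range_ι]
    rintro _ ⟨x, rfl⟩
    change h (s x) ∈ U
    rw [← Scheme.Hom.comp_apply, hs]
    exact x.2
  set s' : U.toScheme ⟶ (h ⁻¹ᵁ U).toScheme := IsOpenImmersion.lift (h ⁻¹ᵁ U).ι s hrange with hs'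
  have hs'ι : s' ≫ (h ⁻¹ᵁ U).ι = s := IsOpenImmersion.lift_fac _ _ _
  have h1 : s' ≫ (h ∣_ U) = 𝟙 _ := by
    rw [← cancel_mono U.ι, Category.assoc, morphismRestrict_ι, ← Category.assoc, hs'ι, hs,
      Category.id_comp]
  set gU : (h ⁻¹ᵁ U).toScheme ⟶ Spec (CommRingCat.of R) := (h ⁻¹ᵁ U).ι ≫ h ≫ πC with hgU
  haveI : Flat gU := by
    rw [hgU]
    infer_instance
  haveI : IsSchemeTheoreticallyDominant (gU ⁻¹ᵁ D).ι := std_preimage_ι ϖ hϖ gU D hD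
  haveI : IsSeparated (h ∣_ U) := inferInstance
  have h2 : (h ∣_ U) ≫ s' = 𝟙 _ := by
    refine Groth.Agent.H9.StdExt.ext_of_std (h ∣_ U)
      (by rw [Category.assoc, h1, Category.comp_id, Category.id_comp]) (gU ⁻¹ᵁ D).ι ?_
    rw [Category.comp_id, ← cancel_mono (h ⁻¹ᵁ U).ι, Category.assoc, Category.assoc, hs'ι]
    have hcomp : ((gU ⁻¹ᵁ D).ι ≫ (h ∣_ U) ≫ s) ≫ h = ((gU ⁻¹ᵁ D).ι ≫ (h ⁻¹ᵁ U).ι) ≫ h := by
      rw [Category.assoc, Category.assoc, hs, morphismRestrict_ι, Category.assoc]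
    have hb : Set.range ((gU ⁻¹ᵁ D).ι ≫ (h ⁻¹ᵁ U).ι) ⊆ (h ⁻¹ᵁ (πC ⁻¹ᵁ D) : Set Z) := by
      rintro _ ⟨x, rfl⟩
      change πC (h (((gU ⁻¹ᵁ D).ι ≫ (h ⁻¹ᵁ U).ι) x)) ∈ D
      have hx : gU ((gU ⁻¹ᵁ D).ι x) ∈ D := x.2
      have hx' : ((h ⁻¹ᵁ U).ι ≫ h ≫ πC) ((gU ⁻¹ᵁ D).ι x) ∈ D := hx
      simpa only [Scheme.Hom.comp_apply] using hx'
    have ha : Set.range ((gU ⁻¹ᵁ D).ι ≫ (h ∣_ U) ≫ s) ⊆ (h ⁻¹ᵁ (πC ⁻¹ᵁ D) : Set Z) := by
      rintro _ ⟨x, rfl⟩
      change h (((gU ⁻¹ᵁ D).ι ≫ (h ∣_ U) ≫ s) x) ∈ πC ⁻¹ᵁ D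
      rw [← Scheme.Hom.comp_apply, hcomp, Scheme.Hom.comp_apply]
      exact hb ⟨x, rfl⟩
    exact eq_of_comp_eq_of_range_subset h (πC ⁻¹ᵁ D) _ _ ha hb hcomp
  exact ⟨s', h2, h1⟩

end Groth.Agent.H5.NbhdIso
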