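import Mathlib
import Groth.Agent.Lib.Helper5.NbhdIso.NbA

/-!
# Local sections of proper birational morphisms at normal codimension one points (helper5, S19198)
-/

set_option autoImplicit false
set_option linter.style.haveILetI false
universe u
open CategoryTheory CategoryTheory.Limits AlgebraicGeometry

namespace Groth.Agent.H5.NbhdIso

/-- in a local domain of Krull dimension one, every nonzero prime is the maximal ideal. -/
theorem eq_maximalIdeal_of_ne_bot {A : Type*} [CommRing A] [IsDomain A] [IsLocalRing A]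
    (hdim : ringKrullDim A = 1) (P : Ideal A) (hP0 : P ≠ ⊥) (hP : P.IsPrime) :
    P = IsLocalRing.maximalIdeal A := by
  haveI : Ring.KrullDimLE 1 A := Ring.krullDimLE_iff.mpr (le_of_eq hdim)
  exact IsLocalRing.eq_maximalIdeal (hP.isMaximal_of_ne_bot hP0)

/-- **local section**: a proper morphism `h : Z ⟶ C` to a flat, locally of finite type scheme over
a Noetherian domain `R`, which is an isomorphism over the locus where `ϖ ≠ 0` is invertible, has a
section over a neighbourhood of every point whose local ring is an integrally closed domain of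
dimension one. -/
theorem exists_section {R : Type u} [CommRing R] [IsDomain R] [IsNoetherianRing R]
    {C Z : Scheme.{u}} (πC : C ⟶ Spec (CommRingCat.of R)) [Flat πC] [LocallyOfFiniteType πC]
    (h : Z ⟶ C) [IsProper h] (ϖ : R) (hϖ : ϖ ≠ 0)
    (hgen : IsIso (h ∣_ (πC ⁻¹ᵁ (PrimeSpectrum.basicOpen ϖ))))
    (c : C) (hdom : IsDomain (C.presheaf.stalk c))
    (hnorm : IsIntegrallyClosed (C.presheaf.stalk c))
    (hdim : ringKrullDim (C.presheaf.stalk c) = 1) :
    ∃ (U : C.Opens) (_ : c ∈ U) (s : U.toScheme ⟶ Z), s ≫ h = U.ι := by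
  haveI := hdom
  set D : (Spec (CommRingCat.of R)).Opens := PrimeSpectrum.basicOpen ϖ with hD
  set W : C.Opens := πC ⁻¹ᵁ D with hW
  by_cases hc : c ∈ W
  · exact ⟨W, hc, inv (h ∣_ W) ≫ (h ⁻¹ᵁ W).ι, by
      rw [Category.assoc, ← morphismRestrict_ι, IsIso.inv_hom_id_assoc]⟩
  haveI : IsLocallyNoetherian C := LocallyOfFiniteType.isLocallyNoetherian πC
  -- the stalk is a valuation ring
  haveI : ValuationRing (C.presheaf.stalk c) := by
    have h31 := (tfae_of_isNoetherianRing_of_isLocalRing_of_isDomain (C.presheaf.stalk c)).out 3 1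
    exact h31.mp ⟨hnorm, fun P hP0 hP => eq_maximalIdeal_of_ne_bot hdim P hP0 hP⟩
  -- the generic point of the stalk lies over `W`
  set η : Spec (C.presheaf.stalk c) := (⟨⊥, Ideal.isPrime_bot⟩ : PrimeSpectrum (C.presheaf.stalk c))
    with hη
  have hηW : C.fromSpecStalk c η ∈ W := by
    have hgm : GeneralizingMap πC := Flat.generalizingMap πC
    have hy0 : (⟨⊥, Ideal.isPrime_bot⟩ : PrimeSpectrum R) ⤳ πC c := by
      rw [← PrimeSpectrum.le_iff_specializes]
      exact bot_le (a := (πC c : PrimeSpectrum R).asIdeal)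
    obtain ⟨c', hc'c, hc'⟩ := hgm hy0
    have hc'W : c' ∈ W := by
      change πC c' ∈ D
      rw [hc', hD]
      change (⟨⊥, Ideal.isPrime_bot⟩ : PrimeSpectrum R) ∈ PrimeSpectrum.basicOpen ϖ
      rw [PrimeSpectrum.mem_basicOpen]
      simpa using hϖ
    have hmem : c' ∈ Set.range (C.fromSpecStalk c) := by
      rw [Scheme.range_fromSpecStalk]
      exact hc'c
    obtain ⟨p, hp⟩ := hmem
    by_cases hp0 : (p : PrimeSpectrum (C.presheaf.stalk c)).asIdeal = ⊥
    · have : p = η := PrimeSpectrum.ext hp0
      rw [← this, hp]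
      exact hc'W
    · exfalso
      have hpm := eq_maximalIdeal_of_ne_bot hdim _ hp0 (p : PrimeSpectrum (C.presheaf.stalk c)).2
      have : p = IsLocalRing.closedPoint (C.presheaf.stalk c) := PrimeSpectrum.ext hpm
      rw [this, Scheme.fromSpecStalk_closedPoint] at hp
      exact hc (hp ▸ hc'W)
  -- the generic point as a morphism
  set K := FractionRing (C.presheaf.stalk c) with hK
  set t : Spec (CommRingCat.of K) ⟶ C :=
    Spec.map (CommRingCat.ofHom (algebraMap (C.presheaf.stalk c) K)) ≫ C.fromSpecStalk c with ht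
  have htrange : Set.range t ⊆ Set.range W.ι := by
    rw [Scheme.Opens.range_ι]
    rintro _ ⟨x, rfl⟩
    have hx : Spec.map (CommRingCat.ofHom (algebraMap (C.presheaf.stalk c) K)) x = η := by
      apply PrimeSpectrum.ext
      change Ideal.comap (algebraMap (C.presheaf.stalk c) K) (x : PrimeSpectrum K).asIdeal = ⊥
      have hx0 : (x : PrimeSpectrum K).asIdeal = ⊥ :=
        ((Ideal.eq_bot_or_top _).resolve_right (x : PrimeSpectrum K).2.ne_top)
      rw [hx0]
      exact (RingHom.injective_iff_ker_eq_bot _).mp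
        (IsFractionRing.injective (C.presheaf.stalk c) K)
    rw [ht, Scheme.Hom.comp_apply, hx]
    exact hηW
  set i₁ : Spec (CommRingCat.of K) ⟶ Z :=
    IsOpenImmersion.lift W.ι t htrange ≫ inv (h ∣_ W) ≫ (h ⁻¹ᵁ W).ι with hi₁
  have hi₁h : i₁ ≫ h = t := by
    rw [hi₁, Category.assoc, Category.assoc, ← morphismRestrict_ι, IsIso.inv_hom_id_assoc,
      IsOpenImmersion.lift_fac]
  -- valuative criterion
  have hex : ValuativeCriterion.Existence h := by
    have : UniversallyClosed h := inferInstance
    rw [UniversallyClosed.eq_valuativeCriterion] at this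
    exact this.1
  let S : ValuativeCommSq h :=
    { R := C.presheaf.stalk c
      domain := hdom
      K := K
      i₁ := i₁
      i₂ := C.fromSpecStalk c
      commSq := ⟨hi₁h⟩ }
  obtain ⟨⟨σ, -, hσ⟩⟩ := hex S
  -- spread out
  obtain ⟨U, hcU, s, -, hs⟩ := spread_out_of_isGermInjective' (𝟙 C) h (x := c)
    (show Spec (C.presheaf.stalk c) ⟶ Z from σ) (by rw [Category.comp_id]; exact hσ)
  exact ⟨U, hcU, s, by rw [hs, Category.comp_id]⟩

end Groth.Agent.H5.NbhdIso
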